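import Groth.Agent.Comod.Chevalley
import Groth.Agent.SubHopf.LinearHull
import Mathlib.LinearAlgebra.FreeModule.PID
import Mathlib.LinearAlgebra.Matrix.NonsingularInverse
import Mathlib.LinearAlgebra.TensorProduct.Basis
import Mathlib.RingTheory.Flat.TorsionFree

/-!
A flat closed subgroup over a principal ideal domain is the stabiliser of a line.
-/

set_option autoImplicit false
set_option linter.style.haveILetI false
universe u v w

open TensorProduct

noncomputable section

namespace Groth.Agent.LineStab81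

section Conj

variable {k : Type u} [CommRing k] {A : Type v} [CommRing A] [HopfAlgebra k A]
  {ι : Type w} [Fintype ι] [DecidableEq ι]

theorem isMat_conj {a : ι → ι → A} (h : Comod.IsMat k a) (P Q : Matrix ι ι k) (hQP : Q * P = 1) (hPQ : P * Q = 1) :
    Comod.IsMat k fun i j => (Q.map (algebraMap k A) * Matrix.of a * P.map (algebraMap k A)) i j := by
  let Δ := Bialgebra.comulAlgHom k A
  let L : A →ₐ[k] A ⊗[k] A := Algebra.TensorProduct.includeLeft
  let R : A →ₐ[k] A ⊗[k] A := Algebra.TensorProduct.includeRight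
  let M : Matrix ι ι k →+* Matrix ι ι (A ⊗[k] A) := (algebraMap k (A ⊗[k] A)).mapMatrix
  have hf : ∀ (f : A →ₐ[k] A ⊗[k] A) (X : Matrix ι ι k), f.toRingHom.mapMatrix (X.map (algebraMap k A)) = M X :=
    fun f X => by ext i j; exact f.commutes _
  have ha : Δ.toRingHom.mapMatrix (Matrix.of a) = L.toRingHom.mapMatrix (Matrix.of a) * R.toRingHom.mapMatrix (Matrix.of a) := by
    ext i j
    show Δ (a i j) = (L.toRingHom.mapMatrix (Matrix.of a) * R.toRingHom.mapMatrix (Matrix.of a)) i j
    rw [Bialgebra.comulAlgHom_apply, h.comul, Matrix.mul_apply]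
    simp [L, R]
  constructor
  · intro i j
    have key : Δ.toRingHom.mapMatrix (Q.map (algebraMap k A) * Matrix.of a * P.map (algebraMap k A)) =
        L.toRingHom.mapMatrix (Q.map (algebraMap k A) * Matrix.of a * P.map (algebraMap k A)) *
        R.toRingHom.mapMatrix (Q.map (algebraMap k A) * Matrix.of a * P.map (algebraMap k A)) := by
      simp only [map_mul, hf, ha]
      have e : M P * M Q = 1 := by rw [← map_mul, hPQ, map_one]
      calc _ = M Q * L.toRingHom.mapMatrix (Matrix.of a) * (M P * M Q) * R.toRingHom.mapMatrix (Matrix.of a) * M P := by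
            rw [e, mul_one]; simp only [mul_assoc]
        _ = _ := by simp only [mul_assoc]
    have := congrFun (congrFun key i) j
    rw [Matrix.mul_apply] at this
    refine this.trans ?_
    simp [L, R]
  · intro i j
    let ε := (Bialgebra.counitAlgHom k A).toRingHom.mapMatrix (m := ι)
    have he : ∀ X : Matrix ι ι k, ε (X.map (algebraMap k A)) = X := fun X => by
      ext i j; simp [ε]
    have ha : ε (Matrix.of a) = 1 := by
      ext i j
      simp [ε, h.counit, Matrix.one_apply]
    have key : ε (Q.map (algebraMap k A) * Matrix.of a * P.map (algebraMap k A)) = 1 := by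
      rw [map_mul, map_mul, he, he, ha, mul_one, hQP]
    have := congrFun (congrFun key i) j
    rw [Matrix.one_apply] at this
    exact this

end Conj

section Main

variable {k : Type u} [CommRing k] {A : Type u} [CommRing A] [HopfAlgebra k A]

theorem stabLine_of_block {d e : ℕ} (a : (Fin d ⊕ Fin e) → (Fin d ⊕ Fin e) → A) (ha : Comod.IsMat k a)
    (I : Ideal A) (hI : I = Ideal.span (Set.range fun p : Fin e × Fin d => a (.inr p.1) (.inl p.2))) :
    ∃ v : (Fin d → Fin d ⊕ Fin e) → k, v (fun s => .inl s) = 1 ∧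
      ∀ (R : Type u) [CommRing R] [Algebra k R] (g : A →ₐ[k] R),
        (∀ x ∈ I, g x = 0) ↔ Comod.StabLine (fun I J : Fin d → Fin d ⊕ Fin e => ∏ s, a (I s) (J s)) g v := by
  classical
  let v : (Fin d → Fin d ⊕ Fin e) → k := fun J =>
    Matrix.det (Matrix.of fun t s => if Sum.inl t = J s then (1 : k) else 0)
  refine ⟨v, ?_, fun R _ _ g => ?_⟩
  · have : (Matrix.of fun t s : Fin d => if (Sum.inl t : Fin d ⊕ Fin e) = Sum.inl s then (1 : k) else 0) = 1 := by
      ext t s; simp [Matrix.one_apply]
    simp only [v, this, Matrix.det_one]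
  let Y : Fin d → (Fin d ⊕ Fin e) → R := fun t i => g (a i (.inl t))
  have hact : ∀ J : Fin d → Fin d ⊕ Fin e, Comod.actPt (fun I J => ∏ s, a (I s) (J s)) g v J =
      Matrix.det (Matrix.of fun t s => Y t (J s)) := by
    intro J
    simp only [Comod.actPt, v, Matrix.det_apply', Matrix.of_apply, Fintype.prod_boole, map_prod, Finset.sum_smul, Y]
    rw [Finset.sum_comm]
    refine Finset.sum_congr rfl fun σ _ => ?_
    rw [Finset.sum_eq_single (fun s => Sum.inl (σ s))]
    · simp [Int.cast_smul_eq_zsmul]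
    · intro L _ hL
      rw [if_neg fun h => hL (funext fun s => (h s).symm), mul_zero, zero_smul]
    · simp
  have hvcast : ∀ J : Fin d → Fin d ⊕ Fin e, algebraMap k R (v J) =
      Matrix.det (Matrix.of fun t s => if Sum.inl t = J s then (1 : R) else 0) := by
    intro J
    simp only [v, RingHom.map_det]
    congr 1
    ext t s
    simp only [RingHom.mapMatrix_apply, Matrix.map_apply, Matrix.of_apply]
    split_ifs <;> simp
  let C : Matrix (Fin d) (Fin d) R := Matrix.of fun t s => Y t (.inl s)
  constructor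
  · intro hg
    have h0 : ∀ m t, Y t (.inr m) = 0 := fun m t =>
      hg _ (hI ▸ Ideal.subset_span ⟨(m, t), rfl⟩)
    refine ⟨C.det, fun J => ?_⟩
    have hf : (Matrix.of fun t s => Y t (J s)) =
        C * Matrix.of fun t s => if Sum.inl t = J s then (1 : R) else 0 := by
      ext t s
      rw [Matrix.mul_apply]
      rcases hJ : J s with s' | m <;> simp [C, hJ, h0]
    rw [hact, hf, Matrix.det_mul, ← hvcast, Algebra.smul_def, mul_comm]
  · rintro ⟨c, hc⟩
    have hc' : ∀ J : Fin d → Fin d ⊕ Fin e, Matrix.det (Matrix.of fun t s => Y t (J s)) = algebraMap k R (v J) * c :=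
      fun J => by rw [← hact, hc, Algebra.smul_def]
    have hv0 : v (fun s => .inl s) = 1 := by
      have : (Matrix.of fun t s : Fin d => if (Sum.inl t : Fin d ⊕ Fin e) = Sum.inl s then (1 : k) else 0) = 1 := by
        ext t s; simp [Matrix.one_apply]
      simp only [v, this, Matrix.det_one]
    have hcu : IsUnit c := Comod.isUnit_of_actPt (Comod.isMat_pi ha) hv0 hc
    have hC : C.det = c := by
      have := hc' (fun s => .inl s)
      rwa [hv0, map_one, one_mul] at this
    have hzero : ∀ m t, Y t (.inr m) = 0 := by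
      intro m
      let y : Fin d → R := fun t => Y t (.inr m)
      have hcr : Matrix.cramer C y = 0 := by
        ext s
        rw [Matrix.cramer_apply]
        have hM : C.updateCol s y = Matrix.of fun t s' => Y t (Function.update (fun s => Sum.inl s) s (Sum.inr m) s') := by
          ext t s'
          rcases eq_or_ne s' s with rfl | h <;> simp [C, y, *]
        rw [hM, hc', hvcast, Matrix.det_eq_zero_of_column_eq_zero s (fun t => by simp)]
        simp
      have h1 := Matrix.mulVec_cramer C y
      rw [hcr, Matrix.mulVec_zero, hC] at h1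
      intro t
      have h2 := congrFun h1 t
      simp only [Pi.zero_apply, Pi.smul_apply, smul_eq_mul] at h2
      exact hcu.mul_right_eq_zero.1 h2.symm
    intro x hx
    have : I ≤ RingHom.ker g := by
      rw [hI, Ideal.span_le]
      rintro _ ⟨⟨m, t⟩, rfl⟩
      exact hzero m t
    exact this hx

variable [IsDomain k] [IsPrincipalIdealRing k] [Module.Flat k A] [Algebra.FiniteType k A]
  {B : Type u} [CommRing B] [HopfAlgebra k B] [Module.Flat k B]

theorem exists_block (π : A →ₐc[k] B) :
    ∃ (d e : ℕ) (a : (Fin d ⊕ Fin e) → (Fin d ⊕ Fin e) → A), Comod.IsMat k a ∧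
      RingHom.ker π = Ideal.span (Set.range fun p : Fin e × Fin d => a (.inr p.1) (.inl p.2)) ∧
      Algebra.adjoin k (Set.range fun p : (Fin d ⊕ Fin e) × (Fin d ⊕ Fin e) => a p.1 p.2) = ⊤ := by
  classical
  haveI : IsNoetherianRing A := Algebra.FiniteType.isNoetherianRing k A
  obtain ⟨s, hs⟩ := IsNoetherian.noetherian (RingHom.ker π)
  obtain ⟨t, ht⟩ := (inferInstance : Algebra.FiniteType k A).out
  obtain ⟨W, hW, hle, hfg⟩ := SubHopf.exists_fg_subcomod (R := k) (C := A) (V := A)
    (Submodule.span k ((s ∪ t : Finset A) : Set A)) (Submodule.fg_span (Finset.finite_toSet _))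
  haveI : Module.Finite k W := Module.Finite.iff_fg.mpr hfg
  letI cW := ComodSub.Comod.restr (HopfRep.Comod.regular k A) W hW
  let f : W →ₗ[k] B := (π : A →ₗ[k] B) ∘ₗ W.subtype
  haveI : Module.IsTorsionFree k A := inferInstance
  haveI : Module.IsTorsionFree k B := inferInstance
  haveI : Module.Free k (LinearMap.range f) := Module.free_of_finite_type_torsion_free'
  haveI : Module.Finite k (LinearMap.ker f) :=
    Module.Finite.iff_fg.mpr (IsNoetherian.noetherian (LinearMap.ker f))
  haveI : Module.Free k (LinearMap.ker f) := Module.free_of_finite_type_torsion_free' (R := k) (M := LinearMap.ker f)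
  obtain ⟨σ, hσ⟩ := Module.projective_lifting_property f.rangeRestrict LinearMap.id f.surjective_rangeRestrict
  have hσ' : ∀ z, f.rangeRestrict (σ z) = z := fun z => LinearMap.congr_fun hσ z
  let E : (LinearMap.ker f × LinearMap.range f) ≃ₗ[k] W := LinearEquiv.ofBijective
    ((LinearMap.ker f).subtype.coprod σ) ⟨fun p q h => by
      have hz : ∀ x : LinearMap.ker f, f.rangeRestrict (x : W) = 0 := fun x => Subtype.ext x.2
      have h2 := congrArg f.rangeRestrict h
      simp only [LinearMap.coprod_apply, Submodule.subtype_apply, map_add, hz, hσ', zero_add] at h2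
      refine Prod.ext (Subtype.ext ?_) h2
      simp only [LinearMap.coprod_apply, Submodule.subtype_apply, h2] at h
      exact add_right_cancel h, fun w => ⟨(⟨w - σ (f.rangeRestrict w), by
        rw [LinearMap.mem_ker]
        have := congrArg Subtype.val (show f.rangeRestrict (w - σ (f.rangeRestrict w)) = 0 by rw [map_sub, hσ', sub_self])
        exact this⟩, f.rangeRestrict w), by simp⟩⟩
  let bM := Module.finBasis k (LinearMap.ker f)
  let bN := Module.finBasis k (LinearMap.range f)
  let b := (bM.prod bN).map E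
  have hl : ∀ t, π (b (.inl t) : A) = 0 := fun t => by
    have : b (.inl t) = (bM t : W) := by simp [b, E]
    rw [this]
    exact (bM t).2
  have hr : ∀ m, π (b (.inr m) : A) = (bN m : B) := fun m => by
    have : b (.inr m) = σ (bN m) := by simp [b, E]
    rw [this]
    exact congrArg Subtype.val (hσ' (bN m))
  have hcomul : ∀ j, Coalgebra.comul (R := k) (b j : A) = ∑ i, (b i : A) ⊗ₜ[k] Comod.mat A b i j := fun j => by
    refine (ComodSub.rTensor_subtype_restrCoact (HopfRep.Comod.regular k A) W hW (b j)).symm.trans ?_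
    show W.subtype.rTensor A (HopfRep.Comod.coact (k := k) (A := A) (b j)) = _
    rw [Comod.coact_basis b j]
    simp
  have hdec : ∀ j, (b j : A) = ∑ i, Coalgebra.counit (R := k) (b i : A) • Comod.mat A b i j := fun j => by
    have h2 := congrArg (fun z => TensorProduct.lid k A ((Coalgebra.counit (R := k) (A := A)).rTensor A z)) (hcomul j)
    simp only [Coalgebra.rTensor_counit_comul, map_sum, LinearMap.rTensor_tmul, TensorProduct.lid_tmul, one_smul] at h2
    exact h2
  refine ⟨_, _, Comod.mat A b, Comod.isMat_mat b, le_antisymm ?_ (Ideal.span_le.2 ?_), ?_⟩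
  · rw [← hs]
    refine Submodule.span_le.2 fun y hy => ?_
    have hyI : π y = 0 := RingHom.mem_ker.1 (hs ▸ Submodule.subset_span hy)
    have hyW : y ∈ W := hle (Submodule.subset_span (by simp [Finset.mem_coe.1 hy]))
    suffices H : ∀ z : LinearMap.ker f, ((z : W) : A) ∈ Ideal.span (Set.range fun p : Fin _ × Fin _ =>
        Comod.mat A b (.inr p.1) (.inl p.2)) from H ⟨⟨y, hyW⟩, hyI⟩
    intro z
    rw [← bM.sum_repr z]
    simp only [Submodule.coe_sum, Submodule.coe_smul]
    refine Submodule.sum_mem _ fun t _ => Submodule.smul_of_tower_mem _ _ ?_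
    rw [show ((bM t : W) : A) = (b (.inl t) : A) by simp [b, E], hdec]
    refine Submodule.sum_mem _ fun i _ => ?_
    rcases i with t' | m
    · rw [← CoalgHomClass.counit_comp_apply π, hl, map_zero, zero_smul]
      exact Submodule.zero_mem _
    · exact Submodule.smul_of_tower_mem _ _ (Ideal.subset_span ⟨(m, t), rfl⟩)
  · rintro _ ⟨⟨m, t⟩, rfl⟩
    rw [SetLike.mem_coe, RingHom.mem_ker]
    have h0 : ∑ m', (bN m' : B) ⊗ₜ[k] π (Comod.mat A b (.inr m') (.inl t)) = 0 := by
      have h := CoalgHomClass.map_comp_comul_apply π (b (.inl t) : A)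
      rw [hl, map_zero, hcomul, map_sum, Fintype.sum_sum_type] at h
      simp only [TensorProduct.map_tmul] at h
      simpa [hl, hr] using h
    have h1 : ∑ m', bN m' ⊗ₜ[k] π (Comod.mat A b (.inr m') (.inl t)) = (0 : LinearMap.range f ⊗[k] B) := by
      apply Module.Flat.rTensor_preserves_injective_linearMap (M := B) _ (LinearMap.range f).injective_subtype
      rw [map_zero, map_sum]
      exact h0
    have h2 := congrArg (fun z => TensorProduct.equivFinsuppOfBasisLeft bN z m) h1
    simp [Finsupp.finsetSum_apply, TensorProduct.equivFinsuppOfBasisLeft_apply_tmul, Finsupp.single_apply] at h2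
    exact h2
  · rw [eq_top_iff, ← ht, Algebra.adjoin_le_iff]
    intro x hx
    have hxW : x ∈ W := hle (Submodule.subset_span (by simp [Finset.mem_coe.1 hx]))
    rw [SetLike.mem_coe, show x = ((⟨x, hxW⟩ : W) : A) from rfl, ← b.sum_repr ⟨x, hxW⟩]
    simp only [Submodule.coe_sum, Submodule.coe_smul]
    refine sum_mem fun j _ => Subalgebra.smul_mem _ ?_ _
    rw [hdec]
    exact sum_mem fun i _ => Subalgebra.smul_mem _ (Algebra.subset_adjoin (Set.mem_range_self (i, j))) _

theorem exists_lineStab (π : A →ₐc[k] B) :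
    ∃ (ι : Type) (_ : Fintype ι) (_ : DecidableEq ι) (i₀ : ι) (a : ι → ι → A), Comod.IsMat k a ∧
      RingHom.ker π = Ideal.span (Set.range fun i : {i // i ≠ i₀} => a i.1 i₀) ∧
      Algebra.adjoin k (Set.range fun p : ι × ι => a p.1 p.2) = ⊤ := by
  classical
  obtain ⟨d, e, a, ha, hI, hgen⟩ := exists_block π
  obtain ⟨v, hv, hstab⟩ := stabLine_of_block a ha _ hI
  let j₀ : Fin d → Fin d ⊕ Fin e := fun s => .inl s
  let c : (Fin d → Fin d ⊕ Fin e) → (Fin d → Fin d ⊕ Fin e) → A := fun I J => ∏ s, a (I s) (J s)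
  let P : Matrix (Fin d → Fin d ⊕ Fin e) (Fin d → Fin d ⊕ Fin e) k :=
    Matrix.updateCol 1 j₀ v
  let Q : Matrix (Fin d → Fin d ⊕ Fin e) (Fin d → Fin d ⊕ Fin e) k :=
    Matrix.updateCol 1 j₀ fun J => if J = j₀ then 1 else -v J
  have hv' : v j₀ = 1 := hv
  have hQrow : ∀ (R : Type u) [CommRing R] [Algebra k R] (f : (Fin d → Fin d ⊕ Fin e) → R) J,
      ∑ p, Q J p • f p = if J = j₀ then f j₀ else f J - v J • f j₀ := by
    intro R _ _ f J
    rw [Finset.sum_eq_add_sum_sdiff_singleton_of_mem (Finset.mem_univ j₀)]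
    rw [Finset.sum_congr rfl (g := fun x => if J = x then f x else 0) fun x hx => by
      have hx' : x ≠ j₀ := by simpa using hx
      simp [Q, Matrix.updateCol_ne hx', Matrix.one_apply, ite_smul], Finset.sum_ite_eq]
    rcases eq_or_ne J j₀ with rfl | hJ
    · simp [Q]
    · simp [Q, hJ]
      abel
  have hQP : Q * P = 1 := by
    ext J l
    rw [Matrix.mul_apply, Matrix.one_apply]
    rcases eq_or_ne J j₀ with rfl | hJ
    · rw [Finset.sum_eq_single j₀]
      · rcases eq_or_ne l j₀ with rfl | hl <;> simp [P, Q, hv', Matrix.one_apply, *, Ne.symm]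
      · intro x _ hx
        simp [Q, hx, Ne.symm hx]
      · simp
    · rw [Finset.sum_eq_add_sum_sdiff_singleton_of_mem (Finset.mem_univ j₀),
        Finset.sum_congr rfl (g := fun x => if J = x then P x l else 0) fun x hx => by
          have hx' : x ≠ j₀ := by simpa using hx
          simp [Q, Matrix.updateCol_ne hx', Matrix.one_apply], Finset.sum_ite_eq]
      rcases eq_or_ne l j₀ with rfl | hl <;>
        simp [P, Q, hv', Matrix.one_apply, hJ, *, Ne.symm]
  have hPQ : P * Q = 1 := mul_eq_one_comm.1 hQP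
  let c' : (Fin d → Fin d ⊕ Fin e) → (Fin d → Fin d ⊕ Fin e) → A :=
    fun i j => (Q.map (algebraMap k A) * Matrix.of c * P.map (algebraMap k A)) i j
  have hc' : Comod.IsMat k c' := isMat_conj (Comod.isMat_pi ha) P Q hQP hPQ
  have hcol : ∀ (R : Type u) [CommRing R] [Algebra k R] (g : A →ₐ[k] R) J, J ≠ j₀ →
      g (c' J j₀) = Comod.actPt c g v J - v J • Comod.actPt c g v j₀ := by
    intro R _ _ g J hJ
    have h := hQrow R (fun p => Comod.actPt c g v p) J
    rw [if_neg hJ] at h
    rw [← h]
    simp only [c', Matrix.mul_assoc, Matrix.mul_apply, map_sum, map_mul, Matrix.map_apply, AlgHom.commutes,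
      Comod.actPt, Algebra.smul_def, Matrix.of_apply]
    refine Finset.sum_congr rfl fun p _ => congrArg _ (Finset.sum_congr rfl fun q _ => ?_)
    simp [P, mul_comm]
  have hK : RingHom.ker π = Ideal.span (Set.range fun i : {i // i ≠ j₀} => c' i.1 j₀) := by
    refine le_antisymm (fun x hx => ?_) (Ideal.span_le.2 ?_)
    · rw [← Ideal.Quotient.eq_zero_iff_mem]
      refine (hstab _ (Ideal.Quotient.mkₐ k _)).2 ⟨Comod.actPt c (Ideal.Quotient.mkₐ k _) v j₀, fun J => ?_⟩ x hx
      rcases eq_or_ne J j₀ with rfl | hJ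
      · rw [hv', one_smul]
      · have h := hcol _ (Ideal.Quotient.mkₐ k (Ideal.span (Set.range fun i : {i // i ≠ j₀} => c' i.1 j₀))) J hJ
        have h0 : Ideal.Quotient.mkₐ k (Ideal.span (Set.range fun i : {i // i ≠ j₀} => c' i.1 j₀)) (c' J j₀) = 0 :=
          Ideal.Quotient.eq_zero_iff_mem.2 (Ideal.subset_span ⟨⟨J, hJ⟩, rfl⟩)
        rw [h0] at h
        exact sub_eq_zero.1 h.symm
    · rintro _ ⟨⟨J, hJ⟩, rfl⟩
      obtain ⟨r, hr⟩ := (hstab _ (π : A →ₐ[k] B)).1 fun x hx => hx
      rw [SetLike.mem_coe, RingHom.mem_ker]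
      have h := hcol _ (π : A →ₐ[k] B) J hJ
      rw [hr, hr, hv', one_smul, sub_self] at h
      exact h
  refine ⟨(Fin d → Fin d ⊕ Fin e) ⊕ (Fin d ⊕ Fin e), inferInstance, inferInstance, .inl j₀,
    fun i j => Matrix.fromBlocks (Matrix.of c') 0 0 (Matrix.of a) i j, ⟨?_, ?_⟩, ?_, ?_⟩
  · rintro (i | i) (j | j) <;> simp [Fintype.sum_sum_type, hc'.comul, ha.comul]
  · rintro (i | i) (j | j) <;> simp [hc'.counit, ha.counit]
  · rw [hK]
    refine le_antisymm (Ideal.span_le.2 ?_) (Ideal.span_le.2 ?_)
    · rintro _ ⟨⟨J, hJ⟩, rfl⟩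
      exact Ideal.subset_span ⟨⟨.inl J, by simpa using hJ⟩, by simp⟩
    · rintro _ ⟨⟨(J | J), hJ⟩, rfl⟩
      · exact Ideal.subset_span ⟨⟨J, fun h => hJ (congrArg Sum.inl h)⟩, by simp⟩
      · simp
  · rw [eq_top_iff, ← hgen]
    refine Algebra.adjoin_mono ?_
    rintro _ ⟨⟨i, j⟩, rfl⟩
    exact ⟨(.inr i, .inr j), by simp⟩

end Main

end Groth.Agent.LineStab81
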